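import Groth.Agent.Lib.FlatDepth.Rings
import Groth.Agent.Lib.FlatDepth.QuotLoc
import Groth.Agent.Lib.ClosedAlong.Criteria
import Groth.Agent.Lib.RegLoc.Basic
import Groth.Agent.Lib.RegLoc.UFD
import Groth.Agent.S2139
import Mathlib

/-!
# Serre's criteria: reduced iff (R₀)+(S₁); normal iff (R₁)+(S₂)
-/

namespace Groth.Agent.SerreCrit

universe u

open IsLocalRing
open scoped Pointwise

variable {R : Type u} [CommRing R] [IsNoetherianRing R]

theorem hasSk_iff_height (k : ℕ) : LocCoh.HasSk k R R ↔ ∀ (p : Ideal R) [p.IsPrime],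
    min (k : ℕ∞) p.height ≤ LocCoh.depth (Localization.AtPrime p) (Localization.AtPrime p) := by
  rw [FlatDepth.hasSk_self_iff]
  refine forall₂_congr fun p _ => ?_
  rw [FlatDepth.SkIneq, IsLocalization.AtPrime.ringKrullDim_eq_height p]
  norm_cast

/-- A regular local ring of dimension zero is a field. -/
theorem isField_of_regular_dim_zero (L : Type u) [CommRing L] [IsRegularLocalRing L]
    (h : ringKrullDim L = 0) : IsField L := by
  haveI := RegLoc.isDomain L
  haveI : Ring.KrullDimLE 0 L := Ring.krullDimLE_iff.2 (by rw [h]; exact le_rfl)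
  exact Ring.KrullDimLE.isField_of_isDomain

/-- `(R_0) + (S_1) ⟹` reduced. -/
theorem isReduced_of_R0_S1 (h0 : LocCoh.HasRk 0 R) (h1 : LocCoh.HasSk 1 R R) : IsReduced R := by
  refine ⟨fun x hx => by_contra fun hne => ?_⟩
  obtain ⟨q, hq, hle⟩ := exists_le_isAssociatedPrime_of_isNoetherianRing R x hne
  haveI := hq.isPrime
  have hht : q.height = 0 := by
    by_contra hpos
    have h1' := (hasSk_iff_height 1).1 h1 q
    have hge : (1 : ℕ∞) ≤ q.height := Order.one_le_iff_pos.2 (pos_iff_ne_zero.2 hpos)
    rw [Nat.cast_one, min_eq_left hge] at h1'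
    refine ClosedAlong.notMem_associatedPrimes_of_one_le_depth q ?_ hq
    rwa [DepthLib.depth_localizedModule_self q]
  haveI : IsRegularLocalRing (Localization.AtPrime q) := h0 q (by rw [hht]; exact le_rfl)
  have hF := isField_of_regular_dim_zero (Localization.AtPrime q)
    (by rw [IsLocalization.AtPrime.ringKrullDim_eq_height q, hht]; rfl)
  have hz : algebraMap R (Localization.AtPrime q) x = 0 := by
    letI := hF.toField
    exact (hx.map (algebraMap R (Localization.AtPrime q))).eq_zero
  obtain ⟨s, hs⟩ := (IsLocalization.map_eq_zero_iff q.primeCompl (Localization.AtPrime q) x).1 hz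
  exact s.2 (hle (Submodule.mem_colon_singleton.2 (by simpa using hs)))

/-- A reduced ring satisfies `(R_0)` and `(S_1)`. -/
theorem R0_S1_of_isReduced [IsReduced R] : LocCoh.HasRk 0 R ∧ LocCoh.HasSk 1 R R := by
  constructor
  · intro p _ hp
    haveI : Ring.KrullDimLE 0 (Localization.AtPrime p) := Ring.krullDimLE_iff.2 (by
      rw [IsLocalization.AtPrime.ringKrullDim_eq_height p]; exact_mod_cast hp)
    haveI : IsReduced (Localization.AtPrime p) := inferInstance
    have hF : IsField (Localization.AtPrime p) := Ring.KrullDimLE.isField_of_isReduced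
    letI := hF.toField
    infer_instance
  · rw [hasSk_iff_height]
    intro p _
    rcases eq_or_ne p.height 0 with h0 | h0
    · simp [h0]
    refine le_trans (min_le_left _ _) ?_
    rw [Nat.cast_one, ← DepthLib.depth_localizedModule_self p]
    refine ClosedAlong.one_le_depth_of_notMem_associatedPrimes p fun hp => ?_
    obtain ⟨-, x, hx⟩ := isAssociatedPrime_iff.1 hp
    have hx' : ∀ a ∈ p, a * x = 0 := fun a ha => by
      have := Submodule.mem_colon_singleton.1 (hx ▸ ha : a ∈ Submodule.colon (⊥ : Submodule R R) {x})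
      simpa using this
    have : x = 0 := by
      have h1 : x ∈ sInf ((⊥ : Ideal R).minimalPrimes) := Submodule.mem_sInf.2 fun q hq => by
        have hne : ¬ p ≤ q := fun hle => h0 (by
          have hpq : p = q := le_antisymm hle (hq.2 ⟨inferInstance, bot_le⟩ hle)
          subst hpq
          exact Ideal.height_eq_zero_iff.2 hq)
        obtain ⟨a, hap, haq⟩ := SetLike.not_le_iff_exists.1 hne
        haveI := hq.1.1
        exact (hq.1.1.mem_or_mem (hx' a hap ▸ q.zero_mem)).resolve_left haq
      rw [Ideal.sInf_minimalPrimes, show (⊥ : Ideal R).radical = nilradical R from rfl, mem_nilradical] at h1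
      exact h1.eq_zero
    subst this
    exact (IsAssociatedPrime.isPrime hp).ne_top (by rw [hx]; ext a; simp [Submodule.mem_colon_singleton])

theorem isReduced_iff : IsReduced R ↔ LocCoh.HasRk 0 R ∧ LocCoh.HasSk 1 R R :=
  ⟨fun _ => R0_S1_of_isReduced, fun h => isReduced_of_R0_S1 h.1 h.2⟩

/-- Depth at least two in an integrally closed local domain of dimension at least two. -/
theorem two_le_depth_of_normal (L : Type u) [CommRing L] [IsLocalRing L] [IsNoetherianRing L] [IsDomain L]
    [IsIntegrallyClosed L] (h : (2 : WithBot ℕ∞) ≤ ringKrullDim L) : 2 ≤ LocCoh.depth L L := by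
  obtain ⟨a, ham, ha⟩ : ∃ a ∈ maximalIdeal L, a ≠ 0 := by
    by_contra! hc
    have hF : IsField L := isField_iff_maximalIdeal_eq.2 ((Submodule.eq_bot_iff _).2 hc)
    rw [ringKrullDim_eq_zero_of_isField hF] at h
    exact absurd h (by decide)
  have hreg : IsSMulRegular L a := IsSMulRegular.of_right_eq_zero_of_smul fun x hx =>
    (mul_eq_zero.1 hx).resolve_left ha
  refine (DepthLib.natCast_le_idealDepth_quotSMulTop_iff ham hreg 1).1 ?_
  rw [Nat.cast_one]
  by_cases hex : ∃ r ∈ maximalIdeal L, IsSMulRegular (QuotSMulTop a L) r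
  · obtain ⟨r, hr, hr'⟩ := hex
    exact DepthLib.one_le_idealDepth_of_regular hr hr'
  exfalso
  push Not at hex
  obtain ⟨q, hq, hle⟩ := DepthLib.exists_associatedPrime_ge hex
  haveI := hq.isPrime
  obtain ⟨-, z, hz⟩ := isAssociatedPrime_iff.1 hq
  obtain ⟨b, rfl⟩ := Submodule.Quotient.mk_surjective _ z
  rw [← (maximalIdeal.isMaximal L).eq_of_le hq.isPrime.ne_top hle] at hz
  have hzmem : ∀ r, r ∈ maximalIdeal L ↔ ∃ c, a * c = r * b := fun r => by
    rw [hz, Submodule.mem_colon_singleton, Submodule.mem_bot, ← Submodule.Quotient.mk_smul,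
      Submodule.Quotient.mk_eq_zero, Submodule.mem_smul_pointwise_iff_exists]
    simp
  have hb : ¬ ∃ c, a * c = b := by
    rintro ⟨c, hc⟩
    exact (maximalIdeal.isMaximal L).ne_top ((Ideal.eq_top_iff_one _).2 ((hzmem 1).2 ⟨c, by rw [hc, one_mul]⟩))
  choose c hc using fun r : maximalIdeal L => (hzmem r.1).1 r.2
  by_cases hall : ∀ r, c r ∈ maximalIdeal L
  · -- determinant trick: `b/a` is integral
    let K := FractionRing L
    have hinj : Function.Injective (algebraMap L K) := IsFractionRing.injective L K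
    have hint : IsIntegral L (algebraMap L K b / algebraMap L K a) := by
      refine isIntegral_of_smul_mem_submodule (Submodule.map (Algebra.linearMap L K) (maximalIdeal L))
        (fun hbot => ha (hinj ?_)) (Submodule.FG.map _ (IsNoetherian.noetherian (maximalIdeal L))) _ ?_
      · rw [map_zero]
        exact (Submodule.eq_bot_iff _).1 hbot _ ⟨a, ham, rfl⟩
      · rintro _ ⟨r, hr, rfl⟩
        refine ⟨c ⟨r, hr⟩, hall _, ?_⟩
        rw [Algebra.linearMap_apply, Algebra.linearMap_apply, smul_eq_mul, div_mul_eq_mul_div,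
          eq_div_iff ((map_ne_zero_iff _ hinj).2 ha), ← map_mul, ← map_mul]
        exact congrArg _ (by linear_combination hc ⟨r, hr⟩)
    obtain ⟨y, hy⟩ := IsIntegrallyClosed.isIntegral_iff.1 hint
    refine hb ⟨y, hinj ?_⟩
    rw [map_mul, hy, mul_div_cancel₀ _ ((map_ne_zero_iff _ hinj).2 ha)]
  · -- the maximal ideal is principal
    push Not at hall
    obtain ⟨r, hr⟩ := hall
    have hu : IsUnit (c r) := notMem_maximalIdeal.1 hr
    have hspan : maximalIdeal L = Ideal.span {(r : L)} := by
      refine le_antisymm (fun s hs => ?_) ((Ideal.span_singleton_le_iff_mem _).2 r.2)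
      have h1 : s * c r = r * c ⟨s, hs⟩ := mul_left_cancel₀ ha (by
        linear_combination s * hc r - (r : L) * hc ⟨s, hs⟩)
      rw [← Ideal.mul_unit_mem_iff_mem _ hu, h1]
      exact Ideal.mul_mem_right _ _ (Ideal.mem_span_singleton_self _)
    haveI hpr : (maximalIdeal L).IsPrincipal := ⟨⟨(r : L), hspan⟩⟩
    have h1 : (maximalIdeal L).height ≤ 1 :=
      Ideal.height_le_one_of_isPrincipal_of_mem_minimalPrimes_of_isLocalRing (maximalIdeal L)
        ⟨⟨inferInstance, le_rfl⟩, fun P hP _ => hP.2⟩
    rw [← IsLocalRing.maximalIdeal_height_eq_ringKrullDim] at h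
    exact absurd (le_trans h (WithBot.coe_le_coe.2 h1)) (by decide)

/-- A normal local ring of dimension at most one is regular. -/
theorem isRegularLocalRing_of_normal (L : Type u) [CommRing L] [IsLocalRing L] [IsNoetherianRing L]
    [IsDomain L] [IsIntegrallyClosed L] (h : ringKrullDim L ≤ 1) : IsRegularLocalRing L := by
  haveI : Ring.KrullDimLE 1 L := Ring.krullDimLE_iff.2 (by exact_mod_cast h)
  have := (tfae_of_isNoetherianRing_of_isLocalRing_of_isDomain L).out 3 0
  haveI : IsPrincipalIdealRing L := this.1 ⟨inferInstance, fun P hP hP' =>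
    (IsLocalRing.eq_maximalIdeal (Ring.krullDimLE_one_iff_of_noZeroDivisors.1 inferInstance P hP hP'))⟩
  infer_instance

theorem R1_S2_of_normal (h : ∀ (p : Ideal R) [p.IsPrime], IsDomain (Localization.AtPrime p) ∧
    IsIntegrallyClosed (Localization.AtPrime p)) : LocCoh.HasRk 1 R ∧ LocCoh.HasSk 2 R R := by
  constructor
  · intro p _ hp
    haveI := (h p).1
    haveI := (h p).2
    refine isRegularLocalRing_of_normal _ ?_
    rw [IsLocalization.AtPrime.ringKrullDim_eq_height p]
    exact_mod_cast hp
  · rw [hasSk_iff_height]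
    intro p _
    haveI := (h p).1
    haveI := (h p).2
    by_cases h2 : (2 : ℕ∞) ≤ p.height
    · refine le_trans (min_le_left _ _) ?_
      rw [Nat.cast_ofNat]
      exact two_le_depth_of_normal _ (by
        rw [IsLocalization.AtPrime.ringKrullDim_eq_height p]; exact WithBot.coe_le_coe.2 h2)
    rcases eq_or_ne p.height 0 with h0 | h0
    · simp [h0]
    obtain ⟨a, ham, ha⟩ : ∃ a ∈ maximalIdeal (Localization.AtPrime p), a ≠ 0 := by
      by_contra! hc
      have hF : IsField (Localization.AtPrime p) :=
        isField_iff_maximalIdeal_eq.2 ((Submodule.eq_bot_iff _).2 hc)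
      have := ringKrullDim_eq_zero_of_isField hF
      rw [IsLocalization.AtPrime.ringKrullDim_eq_height p] at this
      exact h0 (by exact_mod_cast this)
    refine le_trans (min_le_right _ _) (le_trans ?_ (DepthLib.one_le_idealDepth_of_regular ham
      (IsSMulRegular.of_right_eq_zero_of_smul fun x hx => (mul_eq_zero.1 hx).resolve_left ha)))
    exact Order.le_of_lt_succ (lt_of_lt_of_le (not_le.1 h2) (by norm_num))

theorem normal_of_R1_S2 (h1 : LocCoh.HasRk 1 R) (h2 : LocCoh.HasSk 2 R R) :
    ∀ (p : Ideal R) [p.IsPrime], IsDomain (Localization.AtPrime p) ∧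
      IsIntegrallyClosed (Localization.AtPrime p) := by
  haveI : IsReduced R := isReduced_of_R0_S1 (fun p _ hp => h1 p (hp.trans (by norm_num)))
    ((hasSk_iff_height 1).2 fun p _ => le_trans (min_le_min_right _ (by norm_num)) ((hasSk_iff_height 2).1 h2 p))
  refine fun p _ => S2139.converse (minimalPrimes.finite_of_isNoetherianRing R) ?_ p
  refine isIntegrallyClosedIn_iff.2 ⟨IsFractionRing.injective R (FractionRing R), fun {x} hx => ?_⟩
  obtain ⟨⟨b, a⟩, rfl⟩ := IsLocalization.mk'_surjective (nonZeroDivisors R) x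
  by_cases hb : ∃ y, (a : R) * y = b
  · obtain ⟨y, hy⟩ := hb
    exact ⟨y, (IsLocalization.eq_mk'_iff_mul_eq).2 (by rw [← map_mul, mul_comm, hy])⟩
  exfalso
  let J : Ideal R := Ideal.span {(a : R)}
  let M := R ⧸ J • (⊤ : Submodule R R)
  have hne : (Submodule.Quotient.mk b : M) ≠ 0 := by
    rw [Ne, Submodule.Quotient.mk_eq_zero, Ideal.smul_eq_mul, Ideal.mul_top, Ideal.mem_span_singleton']
    exact fun ⟨y, hy⟩ => hb ⟨y, by rw [mul_comm, hy]⟩
  obtain ⟨q, hq, hle⟩ := exists_le_isAssociatedPrime_of_isNoetherianRing R _ hne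
  haveI := hq.isPrime
  let L := Localization.AtPrime q
  have haq : (a : R) ∈ q := hle (Submodule.mem_colon_singleton.2 (by
    rw [Submodule.mem_bot, ← Submodule.Quotient.mk_smul, Submodule.Quotient.mk_eq_zero, Ideal.smul_eq_mul,
      Ideal.mul_top]
    exact Ideal.mul_mem_right _ _ (Ideal.mem_span_singleton_self _)))
  have hreg : IsSMulRegular (LocalizedModule q.primeCompl R) (algebraMap R L a) :=
    IsSMulRegular.of_isLocalizedModule L q.primeCompl (LocalizedModule.mkLinearMap q.primeCompl R)
      (IsSMulRegular.of_right_eq_zero_of_smul fun y hy =>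
        (mul_left_mem_nonZeroDivisors_eq_zero_iff a.2).1 hy)
  have ham : algebraMap R L a ∈ maximalIdeal L := (IsLocalization.AtPrime.to_map_mem_maximal_iff L q _).2 haq
  have hht : q.height ≤ 1 := by
    by_contra hgt
    have hgt' : (2 : ℕ∞) ≤ q.height := by
      have := Order.add_one_le_of_lt (not_le.1 hgt)
      simpa [one_add_one_eq_two] using this
    have hd := (hasSk_iff_height 2).1 h2 q
    rw [Nat.cast_ofNat, min_eq_left hgt', ← DepthLib.depth_localizedModule_self q] at hd
    refine ClosedAlong.notMem_associatedPrimes_of_one_le_depth q ?_ hq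
    rw [LocCoh.depth, DepthLib.idealDepth_congr ((FlatDepth.localizeQuotModEquiv R J q.primeCompl).trans
      (Submodule.quotEquivOfEq _ (algebraMap R L a • (⊤ : Submodule L (LocalizedModule q.primeCompl R)))
        (by rw [Ideal.map_span, Set.image_singleton, Submodule.ideal_span_singleton_smul])))]
    exact (DepthLib.natCast_le_idealDepth_quotSMulTop_iff ham hreg 1).2 (by exact_mod_cast hd)
  haveI : IsRegularLocalRing L := h1 q (by exact_mod_cast hht)
  haveI := RegLoc.isDomain L
  haveI : UniqueFactorizationMonoid L := RegLoc.ufd_of_isRegularLocalRing L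
  haveI : IsIntegrallyClosed L := inferInstance
  have hA0 : algebraMap R L a ≠ 0 := fun h0 => by
    obtain ⟨s, hs⟩ := (IsLocalization.map_eq_zero_iff q.primeCompl L (a : R)).1 h0
    exact s.2 (by rw [(mul_right_mem_nonZeroDivisors_eq_zero_iff a.2).1 hs]; exact q.zero_mem)
  let K := FractionRing L
  have hK : ∀ m : nonZeroDivisors R, IsUnit ((algebraMap L K).comp (algebraMap R L) m) := fun m => by
    refine isUnit_iff_ne_zero.2 fun h0 => ?_
    rw [RingHom.comp_apply, map_eq_zero_iff _ (IsFractionRing.injective L K)] at h0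
    obtain ⟨s, hs⟩ := (IsLocalization.map_eq_zero_iff q.primeCompl L (m : R)).1 h0
    exact s.2 (by rw [(mul_right_mem_nonZeroDivisors_eq_zero_iff m.2).1 hs]; exact q.zero_mem)
  let φ : FractionRing R →ₐ[R] K := AlgHom.mk (IsLocalization.lift hK) (fun r =>
    (IsLocalization.lift_eq hK r).trans (IsScalarTower.algebraMap_apply R L K r).symm)
  have hint : IsIntegral L (φ (IsLocalization.mk' (FractionRing R) b a)) := (hx.map φ).tower_top
  obtain ⟨y, hy⟩ := IsIntegrallyClosed.isIntegral_iff.1 hint
  obtain ⟨⟨r, s⟩, hrs⟩ := IsLocalization.surj q.primeCompl y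
  have hy' : algebraMap L K (y * algebraMap R L a) = algebraMap L K (algebraMap R L b) := by
    rw [map_mul, hy, ← IsScalarTower.algebraMap_apply, ← IsScalarTower.algebraMap_apply, ← φ.commutes, ← map_mul,
      IsLocalization.mk'_spec, φ.commutes]
  have hy'' := IsFractionRing.injective L K hy'
  have h3 : algebraMap R L ((s : R) * b) = algebraMap R L (r * a) := by
    rw [map_mul, map_mul, ← hy'', ← hrs]; ring
  obtain ⟨t, ht⟩ := IsLocalization.exists_of_eq (M := q.primeCompl) h3
  refine (s * t : q.primeCompl).2 (hle (Submodule.mem_colon_singleton.2 ?_))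
  rw [Submodule.mem_bot, ← Submodule.Quotient.mk_smul, Submodule.Quotient.mk_eq_zero, Ideal.smul_eq_mul,
    Ideal.mul_top, Ideal.mem_span_singleton']
  exact ⟨(t : R) * r, by rw [Submonoid.coe_mul, smul_eq_mul]; linear_combination -ht⟩

theorem normal_iff : (∀ (p : Ideal R) [p.IsPrime], IsDomain (Localization.AtPrime p) ∧
    IsIntegrallyClosed (Localization.AtPrime p)) ↔ LocCoh.HasRk 1 R ∧ LocCoh.HasSk 2 R R :=
  ⟨R1_S2_of_normal, fun h => normal_of_R1_S2 h.1 h.2⟩

end Groth.Agent.SerreCrit
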